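import Cfsg.Agent.H439.Der.Tools
import Cfsg.Agent.H503.El.Fix2_m3
import Cfsg.Agent.Lib.FieldFour
import Cfsg.Agent.Lib.FinFast
import Cfsg.Agent.H377.OddThree_m3
import Cfsg.Agent.H964.Opm.Semi
import Cfsg.Agent.S0293
import Cfsg.Agent.S0294
import Cfsg.Agent.FastGrp
import Cfsg.Agent.Prune
set_option linter.all false

section
prune_inst 0x7fffadfffbf8b5dfffff7e7fffdcdffe3b95dfffafdffb4bffec6bffbfff230219ed6bad9de0d0fe0ef6623610b87843fb7eeeffe06fdc7ffffdfff41ffbee5ff7ff350c1194ac341f7e6fff93f07f8e7f3fffffffffffffffffffffffffffbeffffffffffff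

-- part: H547/Der/Gen
section
set_option linter.all false
open scoped Cfsg.Agent.FastGrp

-- part: H547/Der/Orb
section
/-!
# Orbits and fixed points (helper547, for S3500)
-/

set_option autoImplicit false

namespace Cfsg.Agent.H547.Der

open MulAction Cfsg.Agent.H439.Der

theorem dvd_card_of_orbits {M X : Type*} [Group M] [MulAction M X] [Finite X] {n : ℕ}
    (h : ∀ x : X, n ∣ Nat.card (orbit M x)) : n ∣ Nat.card X := by
  classical
  have : Fintype (orbitRel.Quotient M X) := Fintype.ofFinite _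
  rw [Nat.card_congr (selfEquivSigmaOrbits M X), Nat.card_sigma]
  exact Finset.dvd_sum fun ω _ => h _

/-- the action on an invariant set -/
@[reducible] def setAct {G X : Type*} [Group G] [MulAction G X] (M : Subgroup G) (Y : Set X)
    (hinv : ∀ m ∈ M, ∀ y ∈ Y, m • y ∈ Y) : MulAction M Y where
  smul m y := ⟨(m : G) • (y : X), hinv m m.2 y y.2⟩
  one_smul y := Subtype.ext (one_smul G (y : X))
  mul_smul a b y := Subtype.ext (mul_smul (a : G) (b : G) (y : X))

/-- `y ^ 9 = 1`, `y ^ 3` without fixed points on the invariant set `Y`: `9 ∣ |Y|` -/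
theorem nine_dvd {G X : Type*} [Group G] [MulAction G X] {y : G} (hy : y ^ 9 = 1) (Y : Set X) [Finite Y]
    (hinv : ∀ x ∈ Y, y • x ∈ Y) (hfix : ∀ x ∈ Y, y ^ 3 • x ≠ x) : 9 ∣ Nat.card Y := by
  classical
  have hfo : IsOfFinOrder y := isOfFinOrder_iff_pow_eq_one.2 ⟨9, by norm_num, hy⟩
  have hpow : ∀ n : ℕ, ∀ x ∈ Y, y ^ n • x ∈ Y := by
    intro n
    induction n with
    | zero => intro x hx; rwa [pow_zero, one_smul]
    | succ n ih => intro x hx; rw [pow_succ', mul_smul]; exact hinv _ (ih x hx)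
  let : MulAction (Subgroup.zpowers y) Y := setAct (Subgroup.zpowers y) Y (by
    intro m hm x hx
    obtain ⟨n, rfl⟩ := hfo.mem_powers_iff_mem_zpowers.2 hm
    exact hpow n x hx)
  refine dvd_card_of_orbits (M := Subgroup.zpowers y) fun x => ?_
  have hcy : Nat.card (Subgroup.zpowers y) ∣ 9 := by
    rw [Nat.card_zpowers]
    exact orderOf_dvd_of_pow_eq_one hy
  have : Finite (Subgroup.zpowers y) := Nat.finite_of_card_ne_zero fun h => by
    rw [h] at hcy
    norm_num at hcy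
  set K := stabilizer (Subgroup.zpowers y) x with hK
  have h1 : K.index = Nat.card (orbit (Subgroup.zpowers y) x) := index_stabilizer _ x
  rw [← h1]
  have h2 : K.index ∣ 3 ^ 2 := K.index_dvd_card.trans (by simpa using hcy)
  obtain ⟨j, hj, hj2⟩ := (Nat.dvd_prime_pow Nat.prime_three).1 h2
  by_cases hj3 : j = 2
  · rw [hj2, hj3]; norm_num
  exfalso
  have hn : K.Normal := by
    refine ⟨fun a ha g => ?_⟩
    have hc : g * a = a * g := by
      obtain ⟨_, i, rfl⟩ := g
      obtain ⟨_, k, rfl⟩ := a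
      apply Subtype.ext
      show y ^ i * y ^ k = y ^ k * y ^ i
      rw [← zpow_add, ← zpow_add, add_comm]
    rw [hc, mul_inv_cancel_right]
    exact ha
  have h3 : (⟨y, Subgroup.mem_zpowers y⟩ : Subgroup.zpowers y) ^ K.index ∈ K := Subgroup.pow_index_mem K _
  have h4 : (⟨y, Subgroup.mem_zpowers y⟩ : Subgroup.zpowers y) ^ 3 ∈ K := by
    have h5 : K.index ∣ 3 := by
      rw [hj2]
      calc 3 ^ j ∣ 3 ^ 1 := pow_dvd_pow 3 (by omega)
        _ = 3 := pow_one 3
    obtain ⟨c, hc⟩ := h5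
    rw [hc, pow_mul]
    exact K.pow_mem h3 c
  rw [hK, mem_stabilizer_iff] at h4
  exact hfix x x.2 (congrArg Subtype.val h4)

/-- fixed points of an element of prime order without fixed points -/
theorem prime_dvd {S α : Type*} [Group S] [MulAction S α] [Finite α] {p : ℕ} (hp : p.Prime) {x : S}
    (hx : orderOf x = p) (s : Set α) (hs : ∀ a ∈ s, x • a ∈ s) (hf : ∀ a ∈ s, x • a ≠ a) :
    p ∣ Nat.card s := by
  have h := Cfsg.Agent.H503.El.Fix.card_mod hp hx s hs
  have h1 : Nat.card {a : α // a ∈ s ∧ x • a = a} = 0 := by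
    have : IsEmpty {a : α // a ∈ s ∧ x • a = a} := ⟨fun a => hf a a.2.1 a.2.2⟩
    exact Nat.card_of_isEmpty
  rw [h1] at h
  exact (Nat.modEq_zero_iff_dvd).1 h

/-- the conclusion for a conjugate -/
theorem twoT_conj {T : Type*} [Group T] {M : Subgroup T} (g : T)
    (h : TwoT T (M.comap (MulAut.conj g).toMonoidHom)) : TwoT T M := TwoT.congr (MulAut.conj g) h

theorem card_comap_conj {T : Type*} [Group T] {M : Subgroup T} (g : T) :
    Nat.card (M.comap (MulAut.conj g).toMonoidHom) = Nat.card M := by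
  have h : M.comap (MulAut.conj g).toMonoidHom = M.map (MulAut.conj g).symm.toMonoidHom :=
    Subgroup.comap_equiv_eq_map_symm (MulAut.conj g) M
  rw [h]
  exact (Nat.card_congr (((MulAut.conj g).symm).subgroupMap M).toEquiv).symm

theorem comap_conj_ne_top {T : Type*} [Group T] {M : Subgroup T} (g : T) (h : M ≠ ⊤) :
    M.comap (MulAut.conj g).toMonoidHom ≠ ⊤ := by
  intro h1
  apply h
  rw [eq_top_iff]
  intro x _
  have : (MulAut.conj g).symm x ∈ M.comap (MulAut.conj g).toMonoidHom := by rw [h1]; trivial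
  have h2 : (MulAut.conj g) ((MulAut.conj g).symm x) ∈ M := this
  rwa [MulEquiv.apply_symm_apply] at h2

end Cfsg.Agent.H547.Der
end

-- part: H547/Der/Gen
section
/-!
# Missed classes: tools (helper547, for S3500)
-/

set_option autoImplicit false

namespace Cfsg.Agent.H547.Der

open Subgroup Cfsg.Agent.H439.Der

variable {T : Type*} [Group T]

/-- no conjugate of `x` is in `M` -/
def Miss (M : Subgroup T) (x : T) : Prop := ∀ g : T, g * x * g⁻¹ ∉ M

variable {M : Subgroup T}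

theorem twoT_of_ne {x y : T} (hx : Miss M x) (hy : Miss M y) (h : orderOf x ≠ orderOf y) : TwoT T M :=
  ⟨x, y, hx, hy, fun g hg => h (by rw [← hg, orderOf_conj])⟩

theorem Miss.of_not_dvd {x : T} {v : ℕ} (hv : ¬ v ∣ Nat.card M) (hx : v ∣ orderOf x) : Miss M x :=
  fun g => not_mem_of_dvd hv hx (MulAut.conj g)

/-- a power is missed: the element is missed -/
theorem Miss.of_pow {x : T} {n : ℕ} (h : Miss M (x ^ n)) : Miss M x := by
  intro g hg
  apply h g
  rw [← conj_pow]
  exact pow_mem hg n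

theorem Miss.conj {x : T} (g : T) (h : Miss M x) : Miss (M.comap (MulAut.conj g).toMonoidHom) x := by
  intro k hk
  apply h (g * k)
  have : (MulAut.conj g) (k * x * k⁻¹) ∈ M := hk
  rw [MulAut.conj_apply] at this
  have h2 : g * (k * x * k⁻¹) * g⁻¹ = g * k * x * (g * k)⁻¹ := by group
  rwa [h2] at this

/-- if a conjugate of `x` is in `M` we can replace `M` by a conjugate containing `x` -/
theorem exists_mem_comap {x : T} (h : ¬ Miss M x) : ∃ g : T, x ∈ M.comap (MulAut.conj g).toMonoidHom := by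
  unfold Miss at h
  push Not at h
  obtain ⟨g, hg⟩ := h
  exact ⟨g, hg⟩

/-- elements of order `p` are conjugate into a subgroup of maximal `p`-power order -/
theorem exists_conj_mem [Finite T] {p k : ℕ} (hp : p.Prime) {W : Subgroup T} (hW : Nat.card W = p ^ k) (hWM : W ≤ M)
    (hM : ¬ p ^ (k + 1) ∣ Nat.card M) {t : T} (ht : t ∈ M) (hto : orderOf t = p) :
    ∃ m ∈ M, m * t * m⁻¹ ∈ W := by
  have hfp : Fact p.Prime := ⟨hp⟩
  have hW' : Nat.card (W.subgroupOf M) = p ^ k := by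
    rw [← hW]
    exact Nat.card_congr (subgroupOfEquivOfLe hWM).toEquiv
  have h1 : IsPGroup p (W.subgroupOf M) := IsPGroup.of_card hW'
  obtain ⟨P, hP⟩ := h1.exists_le_sylow
  have hPe : (P : Subgroup M) = W.subgroupOf M := by
    obtain ⟨j, hj⟩ := IsPGroup.iff_card.1 P.2
    have h2 : Nat.card P ∣ Nat.card M := Subgroup.card_subgroup_dvd_card _
    have h3 : j ≤ k := by
      by_contra hcon
      push Not at hcon
      apply hM
      exact (pow_dvd_pow p hcon).trans (by rw [← hj]; exact h2)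
    symm
    apply Subgroup.eq_of_le_of_card_ge hP
    rw [hW']
    have h4 : Nat.card (P : Subgroup M) = p ^ j := hj
    rw [h4]
    exact Nat.pow_le_pow_right hp.pos h3
  have h5 : IsPGroup p (zpowers (⟨t, ht⟩ : M)) := by
    refine IsPGroup.of_card (n := 1) ?_
    rw [Nat.card_zpowers, Subgroup.orderOf_mk, hto, pow_one]
  obtain ⟨Q, hQ⟩ := h5.exists_le_sylow
  obtain ⟨m, hm⟩ := MulAction.exists_smul_eq M Q P
  refine ⟨m, m.2, ?_⟩
  have h6 : m * (⟨t, ht⟩ : M) * m⁻¹ ∈ (P : Subgroup M) := by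
    rw [← hm, Sylow.coe_subgroup_smul, Subgroup.mem_pointwise_smul_iff_inv_smul_mem]
    have h7 : (MulAut.conj m)⁻¹ • (m * (⟨t, ht⟩ : M) * m⁻¹) = ⟨t, ht⟩ := by
      rw [← map_inv, MulAut.smul_def, MulAut.conj_apply]
      group
    rw [h7]
    exact hQ (mem_zpowers _)
  rw [hPe, mem_subgroupOf] at h6
  exact h6

/-- the elements of order `3` in a cyclic group of order `9` -/
theorem cube_eq_pow {w t : T} (hw : orderOf w = 9) (ht : t ∈ zpowers w) (hto : orderOf t = 3) : ∃ k : ℕ, t ^ k = w ^ 3 := by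
  have hfo : IsOfFinOrder w := by
    rw [← orderOf_pos_iff, hw]; norm_num
  obtain ⟨i, hi⟩ := hfo.mem_powers_iff_mem_zpowers.2 ht
  have hi' : w ^ i = t := hi
  have h3 : w ^ (i * 3) = 1 := by
    rw [pow_mul, hi', ← hto, pow_orderOf_eq_one]
  have h9 : 9 ∣ i * 3 := by
    rw [← hw]; exact orderOf_dvd_of_pow_eq_one h3
  have h4 : 3 ∣ i := by omega
  obtain ⟨j, rfl⟩ := h4
  have h5 : ¬ 3 ∣ j := by
    rintro ⟨l, rfl⟩
    have : t = 1 := by
      rw [← hi', show 3 * (3 * l) = 9 * l by ring, pow_mul, ← hw, pow_orderOf_eq_one, one_pow]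
    rw [this, orderOf_one] at hto
    norm_num at hto
  have h6 : j % 3 = 1 ∨ j % 3 = 2 := by omega
  rcases h6 with h6 | h6
  · refine ⟨1, ?_⟩
    rw [pow_one, ← hi']
    have : 3 * j = 9 * (j / 3) + 3 := by omega
    rw [this, pow_add, pow_mul, ← hw, pow_orderOf_eq_one, one_pow, one_mul]
  · refine ⟨2, ?_⟩
    rw [← hi', ← pow_mul]
    have : 3 * j * 2 = 9 * (2 * (j / 3) + 1) + 3 := by omega
    rw [this, pow_add, pow_mul, ← hw, pow_orderOf_eq_one, one_pow, one_mul]

theorem two_of_twoT (hinn : ∀ φ : T ≃* T, ∃ g : T, φ = MulAut.conj g) (h : TwoT T M) : Two T M := by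
  obtain ⟨x, y, hx, hy, hxy⟩ := h
  refine ⟨x, y, fun φ => ?_, fun φ => ?_, fun φ => ?_⟩
  · obtain ⟨g, rfl⟩ := hinn φ; exact hx g
  · obtain ⟨g, rfl⟩ := hinn φ; exact hy g
  · obtain ⟨g, rfl⟩ := hinn φ; exact hxy g

end Cfsg.Agent.H547.Der
end
end

-- part: H547/Der/FourMat
section
set_option linter.all false
open scoped Cfsg.Agent.FastGrp

/-!
# `Sp₄(4)`: explicit matrices (helper547, for S3500)
-/

set_option autoImplicit false

namespace Cfsg.Agent.H547.Der.Four

open Cfsg.Agent.Lib.FieldFour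

/-- index type -/
abbrev I4 := Fin 2 ⊕ Fin 2

/-- vectors -/
abbrev V4 := I4 → F4

/-- matrices -/
abbrev M4 := Matrix I4 I4 F4

/-- the element of order 5 with fixed vectors -/
def Y1 : M4 := Matrix.fromBlocks !![.o, .o; .o, .i] !![.i, .o; .o, .o] !![.i, .o; .o, .o] !![.w, .o; .o, .i]
/-- square -/
def Y12 : M4 := Matrix.fromBlocks !![.i, .o; .o, .i] !![.w, .o; .o, .o] !![.w, .o; .o, .o] !![.w, .o; .o, .i]
/-- cube -/
def Y13 : M4 := Matrix.fromBlocks !![.w, .o; .o, .i] !![.w, .o; .o, .o] !![.w, .o; .o, .o] !![.i, .o; .o, .i]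

/-- the element of order 5 without fixed vectors, whose centralizer has odd order -/
def Y2 : M4 := Matrix.fromBlocks !![.o, .o; .o, .o] !![.i, .o; .o, .i] !![.i, .o; .o, .i] !![.w, .o; .o, .v]
/-- square -/
def Y22 : M4 := Matrix.fromBlocks !![.i, .o; .o, .i] !![.w, .o; .o, .v] !![.w, .o; .o, .v] !![.w, .o; .o, .v]
/-- cube -/
def Y23 : M4 := Matrix.fromBlocks !![.w, .o; .o, .v] !![.w, .o; .o, .v] !![.w, .o; .o, .v] !![.i, .o; .o, .i]

/-- an involution commuting with `Y1` -/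
def T2 : M4 := Matrix.fromBlocks !![.i, .o; .o, .o] !![.o, .o; .o, .i] !![.o, .o; .o, .i] !![.i, .o; .o, .o]

/-- order 3 with fixed vectors -/
def X1 : M4 := Matrix.fromBlocks !![.o, .o; .o, .i] !![.i, .o; .o, .o] !![.i, .o; .o, .o] !![.i, .o; .o, .i]
/-- square -/
def X12 : M4 := Matrix.fromBlocks !![.i, .o; .o, .i] !![.i, .o; .o, .o] !![.i, .o; .o, .o] !![.o, .o; .o, .i]

/-- order 3 without fixed vectors -/
def X2 : M4 := Matrix.fromBlocks !![.o, .o; .o, .o] !![.i, .o; .o, .i] !![.i, .o; .o, .i] !![.i, .o; .o, .i]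
/-- square -/
def X22 : M4 := Matrix.fromBlocks !![.i, .o; .o, .i] !![.i, .o; .o, .i] !![.i, .o; .o, .i] !![.o, .o; .o, .o]

set_option maxRecDepth 100000 in
theorem Y1_sp : Y1 * Matrix.J (Fin 2) F4 * Y1.transpose = Matrix.J (Fin 2) F4 := by decide +kernel
set_option maxRecDepth 100000 in
theorem Y2_sp : Y2 * Matrix.J (Fin 2) F4 * Y2.transpose = Matrix.J (Fin 2) F4 := by decide +kernel
set_option maxRecDepth 100000 in
theorem T2_sp : T2 * Matrix.J (Fin 2) F4 * T2.transpose = Matrix.J (Fin 2) F4 := by decide +kernel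
set_option maxRecDepth 100000 in
theorem X1_sp : X1 * Matrix.J (Fin 2) F4 * X1.transpose = Matrix.J (Fin 2) F4 := by decide +kernel
set_option maxRecDepth 100000 in
theorem X2_sp : X2 * Matrix.J (Fin 2) F4 * X2.transpose = Matrix.J (Fin 2) F4 := by decide +kernel

set_option maxRecDepth 100000 in
theorem Y1_eq : Y1 * Y1 = Y12 ∧ Y12 * Y1 = Y13 ∧ Y13 * Y12 = 1 ∧ Y1 ≠ 1 := by decide +kernel
set_option maxRecDepth 100000 in
theorem Y2_eq : Y2 * Y2 = Y22 ∧ Y22 * Y2 = Y23 ∧ Y23 * Y22 = 1 ∧ Y2 ≠ 1 := by decide +kernel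
set_option maxRecDepth 100000 in
theorem X1_eq : X1 * X1 = X12 ∧ X12 * X1 = 1 ∧ X1 ≠ 1 := by decide +kernel
set_option maxRecDepth 100000 in
theorem X2_eq : X2 * X2 = X22 ∧ X22 * X2 = 1 ∧ X2 ≠ 1 := by decide +kernel
set_option maxRecDepth 100000 in
theorem T2_eq : T2 * T2 = 1 ∧ T2 ≠ 1 ∧ T2 * Y1 = Y1 * T2 := by decide +kernel

theorem pow_five {A B C : M4} (h1 : A * A = B) (h2 : B * A = C) (h3 : C * B = 1) : A ^ 5 = 1 := by
  rw [← h3, ← h2, ← h1, pow_succ, pow_succ, pow_succ, pow_succ, pow_one]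
  simp only [mul_assoc]

theorem pow_three {A B : M4} (h1 : A * A = B) (h2 : B * A = 1) : A ^ 3 = 1 := by
  rw [← h2, ← h1, pow_succ, pow_succ, pow_one]

/-- a vector fixed by `Y1` and `X1` -/
def e4 : V4 := Sum.elim ![.o, .i] ![.o, .o]

set_option maxRecDepth 100000 in
theorem e4_fix : Y1.mulVec e4 = e4 ∧ X1.mulVec e4 = e4 ∧ e4 ≠ 0 := by decide +kernel

private noncomputable def _root_.Cfsg.Agent.LsF.fe36b51_4 : {f // @Cfsg.Agent.H547.Der.Four.Y2 = f} := ⟨_, by first | (delta Cfsg.Agent.H547.Der.Four.Y2; rewrite [Cfsg.Agent.LsF.mof_pat, Cfsg.Agent.LsF.vecCons_eq]; exact rfl) | exact rfl⟩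
private noncomputable def _root_.Cfsg.Agent.LsF.fe36b51_5 : {f // @Cfsg.Agent.Lib.FieldFour.instDecidableEqF4 = f} := ⟨_, by first | (delta Cfsg.Agent.Lib.FieldFour.instDecidableEqF4; rewrite [Cfsg.Agent.LsF.instDecEq_eq, Cfsg.Agent.LsF.dite_eq]; exact rfl) | exact rfl⟩
set_option maxRecDepth 100000 in
theorem Y2_fpf : ∀ v : V4, Y2.mulVec v = v → v = 0 := by (refine of_decide_eq_true ?_; (try (rewrite [Cfsg.Agent.LsF.fe36b51_4.2, Cfsg.Agent.LsF.fe36b51_5.2, Cfsg.Agent.LsF.finFintype_eq, Cfsg.Agent.LsF.dForall_eq, Cfsg.Agent.LsF.dPi_eq, Cfsg.Agent.LsF.mulVec_eq, Cfsg.Agent.LsF.dFinEq_eq, Cfsg.Agent.LsF.dAllP_eq, Cfsg.Agent.LsF.decide_eq])); decide +kernel)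

private noncomputable def _root_.Cfsg.Agent.LsF.fe36b51_6 : {f // @Cfsg.Agent.H547.Der.Four.X2 = f} := ⟨_, by first | (delta Cfsg.Agent.H547.Der.Four.X2; rewrite [Cfsg.Agent.LsF.mof_pat, Cfsg.Agent.LsF.vecCons_eq]; exact rfl) | exact rfl⟩
set_option maxRecDepth 100000 in
theorem X2_fpf : ∀ v : V4, X2.mulVec v = v → v = 0 := by (refine of_decide_eq_true ?_; (try (rewrite [Cfsg.Agent.LsF.fe36b51_6.2, Cfsg.Agent.LsF.fe36b51_5.2, Cfsg.Agent.LsF.finFintype_eq, Cfsg.Agent.LsF.dForall_eq, Cfsg.Agent.LsF.dPi_eq, Cfsg.Agent.LsF.mulVec_eq, Cfsg.Agent.LsF.dFinEq_eq, Cfsg.Agent.LsF.dAllP_eq, Cfsg.Agent.LsF.decide_eq])); decide +kernel)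

/-- polynomials in `Y2` -/
def P (c : V4) : M4 := c (.inl 0) • (1 : M4) + c (.inl 1) • Y2 + c (.inr 0) • Y22 + c (.inr 1) • Y23

theorem P_comm {t : M4} (h : t * Y2 = Y2 * t) (c : V4) : t * P c = P c * t := by
  have hc : Commute t Y2 := h
  unfold P
  have h1 : Commute t Y22 := by rw [← Y2_eq.1]; exact hc.mul_right hc
  have h2 : Commute t Y23 := by rw [← Y2_eq.2.1]; exact h1.mul_right hc
  exact ((((Commute.one_right t).smul_right _).add_right (hc.smul_right _)).add_right (h1.smul_right _)).add_right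
    (h2.smul_right _)

/-- a cyclic vector -/
def v0 : V4 := Sum.elim ![.i, .i] ![.o, .o]

/-- coordinates with respect to the cyclic vector -/
def Bi (w : V4) : V4 := Sum.elim ![.w * w (.inl 0) + .v * w (.inl 1) + w (.inr 0) + w (.inr 1),
  .v * w (.inr 0) + .w * w (.inr 1)] ![w (.inl 0) + w (.inl 1) + w (.inr 0) + w (.inr 1), w (.inl 0) + w (.inl 1)]

/-- the vector `P c v0` -/
def Pv (c : V4) : V4 := Sum.elim ![c (.inl 0) + c (.inr 0) + .w * c (.inr 1), c (.inl 0) + c (.inr 0) + .v * c (.inr 1)]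
  ![c (.inl 1) + .w * c (.inr 0) + .w * c (.inr 1), c (.inl 1) + .v * c (.inr 0) + .v * c (.inr 1)]

private noncomputable def _root_.Cfsg.Agent.LsF.fe36b51_0 : {f // @Cfsg.Agent.Lib.FieldFour.F4.add = f} := ⟨_, by first | (delta Cfsg.Agent.Lib.FieldFour.F4.add; (try delta Cfsg.Agent.Lib.FieldFour.F4.add.match_1); (try delta Cfsg.Agent.Lib.FieldFour.F4.casesOn); exact rfl) | exact rfl⟩
private noncomputable def _root_.Cfsg.Agent.LsF.fe36b51_2 : {f // @Cfsg.Agent.Lib.FieldFour.F4.mul = f} := ⟨_, by first | (delta Cfsg.Agent.Lib.FieldFour.F4.mul; (try delta Cfsg.Agent.Lib.FieldFour.F4.mul.match_1); (try delta Cfsg.Agent.Lib.FieldFour.F4.casesOn); exact rfl) | exact rfl⟩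
private noncomputable def _root_.Cfsg.Agent.LsF.fe36b51_7 : {f // @Cfsg.Agent.H547.Der.Four.Y22 = f} := ⟨_, by first | (delta Cfsg.Agent.H547.Der.Four.Y22; rewrite [Cfsg.Agent.LsF.mof_pat, Cfsg.Agent.LsF.vecCons_eq]; exact rfl) | exact rfl⟩
private noncomputable def _root_.Cfsg.Agent.LsF.fe36b51_8 : {f // @Cfsg.Agent.H547.Der.Four.Y23 = f} := ⟨_, by first | (delta Cfsg.Agent.H547.Der.Four.Y23; rewrite [Cfsg.Agent.LsF.mof_pat, Cfsg.Agent.LsF.vecCons_eq]; exact rfl) | exact rfl⟩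
private noncomputable def _root_.Cfsg.Agent.LsF.fe36b51_9 : {f // @Cfsg.Agent.H547.Der.Four.P = f} := ⟨_, by first | (delta Cfsg.Agent.H547.Der.Four.P; rewrite [Cfsg.Agent.LsF.madd_pat, Cfsg.Agent.LsF.msmul_pat, (show (HAdd.hAdd : Cfsg.Agent.Lib.FieldFour.F4 → Cfsg.Agent.Lib.FieldFour.F4 → Cfsg.Agent.Lib.FieldFour.F4) = Cfsg.Agent.Lib.FieldFour.F4.add from rfl), (show (HMul.hMul : Cfsg.Agent.Lib.FieldFour.F4 → Cfsg.Agent.Lib.FieldFour.F4 → Cfsg.Agent.Lib.FieldFour.F4) = Cfsg.Agent.Lib.FieldFour.F4.mul from rfl), Cfsg.Agent.LsF.fe36b51_0.2, Cfsg.Agent.LsF.fe36b51_2.2, Cfsg.Agent.LsF.fe36b51_4.2, Cfsg.Agent.LsF.fe36b51_7.2, Cfsg.Agent.LsF.fe36b51_8.2, Cfsg.Agent.LsF.instMOne_eq, Cfsg.Agent.LsF.dFinEq_eq]; exact rfl) | exact rfl⟩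
private noncomputable def _root_.Cfsg.Agent.LsF.fe36b51_10 : {f // @Cfsg.Agent.H547.Der.Four.v0 = f} := ⟨_, by first | (delta Cfsg.Agent.H547.Der.Four.v0; rewrite [Cfsg.Agent.LsF.vecCons_eq]; exact rfl) | exact rfl⟩
private noncomputable def _root_.Cfsg.Agent.LsF.fe36b51_11 : {f // @Cfsg.Agent.H547.Der.Four.Pv = f} := ⟨_, by first | (delta Cfsg.Agent.H547.Der.Four.Pv; rewrite [(show (HAdd.hAdd : Cfsg.Agent.Lib.FieldFour.F4 → Cfsg.Agent.Lib.FieldFour.F4 → Cfsg.Agent.Lib.FieldFour.F4) = Cfsg.Agent.Lib.FieldFour.F4.add from rfl), (show (HMul.hMul : Cfsg.Agent.Lib.FieldFour.F4 → Cfsg.Agent.Lib.FieldFour.F4 → Cfsg.Agent.Lib.FieldFour.F4) = Cfsg.Agent.Lib.FieldFour.F4.mul from rfl), Cfsg.Agent.LsF.fe36b51_0.2, Cfsg.Agent.LsF.fe36b51_2.2, Cfsg.Agent.LsF.vecCons_eq]; exact rfl) | exact rfl⟩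
set_option maxRecDepth 100000 in
theorem P_v0 : ∀ c : V4, (P c).mulVec v0 = Pv c := by (refine of_decide_eq_true ?_; (try (rewrite [Cfsg.Agent.LsF.fe36b51_9.2, Cfsg.Agent.LsF.fe36b51_10.2, Cfsg.Agent.LsF.fe36b51_11.2, Cfsg.Agent.LsF.fe36b51_5.2, Cfsg.Agent.LsF.finFintype_eq, Cfsg.Agent.LsF.dForall_eq, Cfsg.Agent.LsF.dPi_eq, Cfsg.Agent.LsF.mulVec_eq, Cfsg.Agent.LsF.dFinEq_eq, Cfsg.Agent.LsF.decide_eq])); decide +kernel)

private noncomputable def _root_.Cfsg.Agent.LsF.fe36b51_12 : {f // @Cfsg.Agent.H547.Der.Four.Bi = f} := ⟨_, by first | (delta Cfsg.Agent.H547.Der.Four.Bi; rewrite [(show (HAdd.hAdd : Cfsg.Agent.Lib.FieldFour.F4 → Cfsg.Agent.Lib.FieldFour.F4 → Cfsg.Agent.Lib.FieldFour.F4) = Cfsg.Agent.Lib.FieldFour.F4.add from rfl), (show (HMul.hMul : Cfsg.Agent.Lib.FieldFour.F4 → Cfsg.Agent.Lib.FieldFour.F4 → Cfsg.Agent.Lib.FieldFour.F4) = Cfsg.Agent.Lib.FieldFour.F4.mul from rfl), Cfsg.Agent.LsF.fe36b51_0.2, Cfsg.Agent.LsF.fe36b51_2.2, Cfsg.Agent.LsF.vecCons_eq];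 exact rfl) | exact rfl⟩
set_option maxRecDepth 100000 in
theorem Pv_Bi : ∀ w : V4, Pv (Bi w) = w := by (refine of_decide_eq_true ?_; (try (rewrite [Cfsg.Agent.LsF.fe36b51_11.2, Cfsg.Agent.LsF.fe36b51_12.2, Cfsg.Agent.LsF.fe36b51_5.2, Cfsg.Agent.LsF.finFintype_eq, Cfsg.Agent.LsF.dForall_eq, Cfsg.Agent.LsF.dPi_eq, Cfsg.Agent.LsF.dFinEq_eq, Cfsg.Agent.LsF.decide_eq])); decide +kernel)

theorem P_Bi (w : V4) : (P (Bi w)).mulVec v0 = w := by rw [P_v0, Pv_Bi]

/-- the coordinates of `1` -/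
def c1 : V4 := Sum.elim ![.i, .o] ![.o, .o]

set_option maxRecDepth 100000 in
theorem P_c1 : P c1 = 1 := by decide +kernel

private noncomputable def _root_.Cfsg.Agent.LsF.fe36b51_13 : {f // @Cfsg.Agent.H547.Der.Four.c1 = f} := ⟨_, by first | (delta Cfsg.Agent.H547.Der.Four.c1; rewrite [Cfsg.Agent.LsF.vecCons_eq]; exact rfl) | exact rfl⟩
set_option maxRecDepth 100000 in
theorem P_sq : ∀ c : V4, (P c).mulVec (Pv c) = v0 → c = c1 := by (refine of_decide_eq_true ?_; (try (rewrite [Cfsg.Agent.LsF.fe36b51_9.2, Cfsg.Agent.LsF.fe36b51_11.2, Cfsg.Agent.LsF.fe36b51_10.2, Cfsg.Agent.LsF.fe36b51_13.2, Cfsg.Agent.LsF.fe36b51_5.2, Cfsg.Agent.LsF.finFintype_eq, Cfsg.Agent.LsF.dForall_eq, Cfsg.Agent.LsF.dPi_eq, Cfsg.Agent.LsF.mulVec_eq, Cfsg.Agent.LsF.dFinEq_eq, Cfsg.Agent.LsF.dAllP_eq, Cfsg.Agent.LsF.decide_eq])); decide +kernel)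

/-- an element of order two does not commute with `Y2` -/
theorem eq_one_of_comm {t : M4} (ht : t * t = 1) (h : t * Y2 = Y2 * t) : t = 1 := by
  set c : V4 := Bi (t.mulVec v0) with hc
  have h1 : t.mulVec v0 = (P c).mulVec v0 := (P_Bi _).symm
  have hP : ∀ c : V4, Y2 * P c = P c * Y2 := fun c => P_comm rfl c
  have h2 : t = P c := by
    have h3 : ∀ w : V4, t.mulVec w = (P c).mulVec w := by
      intro w
      have h4 : (P (Bi w)).mulVec v0 = w := P_Bi w
      have h5 : P c * P (Bi w) = P (Bi w) * P c := P_comm (hP c).symm _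
      calc t.mulVec w = t.mulVec ((P (Bi w)).mulVec v0) := by rw [h4]
        _ = (P (Bi w)).mulVec (t.mulVec v0) := by rw [Matrix.mulVec_mulVec, P_comm h, ← Matrix.mulVec_mulVec]
        _ = (P c).mulVec ((P (Bi w)).mulVec v0) := by
          rw [h1, Matrix.mulVec_mulVec, Matrix.mulVec_mulVec, h5]
        _ = (P c).mulVec w := by rw [h4]
    ext i j
    have h4 := congrFun (h3 (Pi.single j 1)) i
    rwa [Matrix.mulVec_single_one, Matrix.mulVec_single_one] at h4
  rw [h2, P_sq c, P_c1]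
  rw [← P_v0, Matrix.mulVec_mulVec, ← h2, ht, Matrix.one_mulVec]

end Cfsg.Agent.H547.Der.Four
end

-- part: H964/Opm/O83
section
prune_inst 0x42000003022000000000000020000040000000000000000280000000001000000400000028000000040000000000000000000100000000000000000000000000000100400000000000000000000000000000000000000000000000000000000000000000
set_option linter.all false
open scoped Cfsg.Agent.FastGrp

-- part: H964/Opm/NscNum
section
/-!
# S3500-OPM: elements of order divisible by `v` and different from `v` in `PΩ^±_{2m}(q)` (helper964)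
-/

set_option autoImplicit false
set_option linter.unusedVariables false

namespace Cfsg.Agent.H964.Opm

open Cfsg.Agent.H377 Cfsg.Agent.H72.AdjOrth

/-! ### numbers -/

theorem two_pow_bd {t : ℕ} (ht : 4 ≤ t) : 5 * t + 6 ≤ 2 * 2 ^ t := by
  obtain ⟨s, rfl⟩ := Nat.exists_eq_add_of_le ht
  induction s with
  | zero => norm_num
  | succ s ih =>
    have := ih (by omega)
    rw [show 4 + (s + 1) = (4 + s) + 1 by ring, pow_succ]
    omega

theorem three_pow_bd {t : ℕ} (ht : 3 ≤ t) : 16 * t + 12 ≤ 3 * 3 ^ t := by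
  obtain ⟨s, rfl⟩ := Nat.exists_eq_add_of_le ht
  induction s with
  | zero => norm_num
  | succ s ih =>
    have := ih (by omega)
    rw [show 3 + (s + 1) = (3 + s) + 1 by ring, pow_succ]
    omega

/-- even `q`, `a ≥ 4` -/
theorem bd_even {q f a : ℕ} (hf : 1 ≤ f) (hq : 2 ^ f ≤ q) (ha : 4 ≤ a) : 2 * (a + 1) * f + 3 ≤ q ^ a := by
  have h1 : (2 ^ f) ^ a ≤ q ^ a := Nat.pow_le_pow_left hq a
  rw [← pow_mul] at h1
  have h2 : 4 ≤ f * a := by nlinarith only [hf, ha]
  have h3 := two_pow_bd h2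
  have h4 : 4 * f ≤ f * a := by nlinarith only [ha]
  have h5 : 2 * (a + 1) * f = 2 * (f * a) + 2 * f := by ring
  omega

/-- odd `q`, `a ≥ 3` -/
theorem bd_odd {q f a : ℕ} (hf : 1 ≤ f) (hq : 3 ^ f ≤ q) (ha : 3 ≤ a) : 4 * (a + 1) * f + 4 ≤ q ^ a := by
  have h1 : (3 ^ f) ^ a ≤ q ^ a := Nat.pow_le_pow_left hq a
  rw [← pow_mul] at h1
  have h2 : 3 ≤ f * a := by nlinarith only [hf, ha]
  have h3 := three_pow_bd h2
  have h4 : 3 * f ≤ f * a := by nlinarith only [ha]
  have h5 : 4 * (a + 1) * f = 4 * (f * a) + 4 * f := by ring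
  omega

theorem eta_le (k : ℕ) : eta k ≤ k := by
  rw [eta]
  split_ifs
  · omega
  · exact le_rfl

/-- the two types -/
theorem type_cases {q v : ℕ} (hq : 1 ≤ q) (hv : v.Prime) (hvq : ¬ v ∣ q) :
    (sg (ee q v) = 1 ∧ v ∣ q ^ eta (ee q v) - 1 ∧ ¬ Even (ee q v)) ∨
      (sg (ee q v) = -1 ∧ v ∣ q ^ eta (ee q v) + 1 ∧ Even (ee q v)) := by
  have h1 := dvd_tn (q := q) hq hv hvq
  rw [tn] at h1
  by_cases h : Even (ee q v)
  · right
    rw [if_pos h] at h1
    refine ⟨?_, ?_, h⟩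
    · rw [sg, if_pos h]
    · rw [eta, if_pos h]; exact h1
  · left
    rw [if_neg h] at h1
    refine ⟨?_, ?_, h⟩
    · rw [sg, if_neg h]
    · rw [eta, if_neg h]; exact h1

theorem not_dvd_small {q v : ℕ} (hq : 1 ≤ q) (h3 : 3 ≤ eta (ee q v)) : ¬ v ∣ q + 1 ∧ ¬ v ∣ q - 1 := by
  have key : ¬ v ∣ q ^ 2 - 1 := by
    intro h
    have h1 := Nat.le_of_dvd (by norm_num) (ee_dvd hq h)
    have h2 := eta_le (ee q v)
    omega
  have hfac : q ^ 2 - 1 = (q + 1) * (q - 1) := by
    have := Nat.sq_sub_sq q 1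
    rw [one_pow] at this
    exact this
  rw [hfac] at key
  exact ⟨fun h => key (Dvd.dvd.mul_right h _), fun h => key (Dvd.dvd.mul_left h _)⟩

/-! ### elements -/

section elts

variable {F : Type*} [Field F] [Finite F]

/-- a block and a minus plane -/
theorem plane_trick {a : ℕ} (ha : 1 ≤ a) {s : ℤ} {v : ℕ} (hv : v.Prime) (hv2 : v ≠ 2) (hE : Elt F a s v)
    (hco : ¬ v ∣ Nat.card F + 1) : ∃ N, v ∣ N ∧ N ≠ v ∧ Elt2 F (a + 1) (s * -1) N := by
  have hq : 1 < Nat.card F := Finite.one_lt_card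
  have hodd := hv.odd_of_ne_two hv2
  rcases Nat.even_or_odd (Nat.card F) with h | h
  · have h1 := (hE.prod (elt_ell (F := F) (N := Nat.card F + 1) dvd_rfl)).two (by omega) (by
      rw [(Nat.Prime.coprime_iff_not_dvd hv |>.2 hco).lcm_eq_mul]
      exact hodd.mul (h.add_one))
    rw [(Nat.Prime.coprime_iff_not_dvd hv |>.2 hco).lcm_eq_mul] at h1
    refine ⟨_, dvd_mul_right _ _, ?_, h1⟩
    have := hv.pos
    nlinarith
  · obtain ⟨l, hl⟩ := h
    have hev : Even (Nat.card F + 1) := ⟨l + 1, by omega⟩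
    have h1 := Elt.prod_two ha hodd hE (elt_ell (F := F) (N := Nat.card F + 1) dvd_rfl) hev
    have h2 : (Nat.card F + 1) / 2 ∣ Nat.card F + 1 := ⟨2, by omega⟩
    have h3 : Nat.Coprime v ((Nat.card F + 1) / 2) :=
      (Nat.Prime.coprime_iff_not_dvd hv).2 fun h => hco (h.trans h2)
    rw [h3.lcm_eq_mul] at h1
    refine ⟨_, dvd_mul_right _ _, ?_, h1⟩
    have := hv.pos
    have : 2 ≤ (Nat.card F + 1) / 2 := by omega
    nlinarith

/-- a torus and a plus plane, `q` even -/
theorem torus_even {a : ℕ} {s : ℤ} {M : ℕ} (hM : Odd M) (hE : Elt F a s M) : Elt2 F (a + 1) (s * 1) M :=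
  (hE.add (m := 1) le_rfl (Or.inl rfl)).two (by omega) hM

/-- a torus and a plus plane, `q` odd -/
theorem torus_odd {a : ℕ} {s : ℤ} {M : ℕ} (hM : Even M) (hE : Elt F a s M) : Elt2 F (a + 1) (s * 1) (M / 2) :=
  hE.add_two le_rfl (Or.inl rfl) hM

/-- the numerical bound -/
def Big (q m v : ℕ) : Prop := ∀ f, 1 ≤ f → 2 ^ f ≤ q → (Odd q → 3 ^ f ≤ q) → f * (2 * m) < v - 1

theorem big_of_even {q a v : ℕ} (hq : Even q) (ha : 4 ≤ a) (hv : q ^ a ≤ v + 1) : Big q (a + 1) v := by
  intro f hf h2 _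
  have := bd_even hf h2 ha
  have h3 : f * (2 * (a + 1)) = 2 * (a + 1) * f := by ring
  omega

theorem big_of_odd {q a v : ℕ} (hq : Odd q) (ha : 3 ≤ a) (hv : q ^ a ≤ 2 * v + 1) : Big q (a + 1) v := by
  intro f hf _ h3
  have := bd_odd hf (h3 hq) ha
  have h3 : 2 * (f * (2 * (a + 1))) = 4 * (a + 1) * f := by ring
  omega

/-- weight at most `m - 2` -/
theorem small_weight {m : ℕ} (hm : 4 ≤ m) {δ : ℤ} (hδ : δ = 1 ∨ δ = -1) {v : ℕ} (hv : v.Prime) (hv2 : v ≠ 2)
    (h : wO (Nat.card F) v ≤ m - 2) : ∃ N, v ∣ N ∧ N ≠ v ∧ Elt2 F m δ N := by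
  obtain ⟨ε, hε, h1⟩ := exists_elt_wO (F := F) hv hv2
  refine ⟨2 * v, dvd_mul_left _ _, ?_, elt2_two (hv.odd_of_ne_two hv2) h1 (wO_pos hv) hε hδ (by omega)⟩
  have := hv.pos
  omega

theorem wO_three (q : ℕ) (hq : 1 ≤ q) : wO q 3 ≤ 2 := by
  rw [wO]
  split_ifs with h
  · exact le_rfl
  · rw [not_or] at h
    have h1 : 3 ∣ q ^ 2 - 1 := by
      have h2 : q % 3 = 1 ∨ q % 3 = 2 := by
        have := h.2
        omega
      have h3 : q ^ 2 % 3 = 1 := by
        rw [Nat.pow_mod]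
        rcases h2 with h2 | h2 <;> rw [h2]
      omega
    have h4 := Nat.le_of_dvd (by norm_num) (ee_dvd hq h1)
    exact (eta_le _).trans h4

/-- `v = 2` -/
theorem case_two {m : ℕ} (hm : 4 ≤ m) {δ : ℤ} (hδ : δ = 1 ∨ δ = -1) : ∃ N, 2 ∣ N ∧ N ≠ 2 ∧ Elt2 F m δ N := by
  obtain ⟨ε, hε, h1⟩ := exists_elt_wO (F := F) Nat.prime_three (by norm_num)
  have h2 := wO_three (Nat.card F) card_pos'
  exact ⟨2 * 3, dvd_mul_right _ _, by norm_num,
    elt2_two (by decide) h1 (wO_pos Nat.prime_three) hε hδ (by omega)⟩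

/-- the torus case for the weight `m - 1` -/
theorem torus_case {a : ℕ} (ha : 3 ≤ a) {s : ℤ} {v M : ℕ} (hv : v.Prime) (hv2 : v ≠ 2) (hvM : v ∣ M) (hE : Elt F a s M)
    (hM : M + 1 = Nat.card F ^ a ∨ M = Nat.card F ^ a + 1) :
    (∃ N, v ∣ N ∧ N ≠ v ∧ Elt2 F (a + 1) (s * 1) N) ∨ (Even (Nat.card F) ∧ v = M) ∨ (Odd (Nat.card F) ∧ 2 * v = M) := by
  have hodd := hv.odd_of_ne_two hv2
  rcases Nat.even_or_odd (Nat.card F) with h | h
  · have h1 : Even (Nat.card F ^ a) := h.pow_of_ne_zero (by omega)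
    have hMo : Odd M := by
      rcases hM with hM | hM
      · rw [← hM] at h1
        exact (Nat.even_add_one.1 h1 |> Nat.not_even_iff_odd.1)
      · rw [hM]; exact h1.add_one
    by_cases hvM' : v = M
    · exact Or.inr (Or.inl ⟨h, hvM'⟩)
    · exact Or.inl ⟨M, hvM, Ne.symm hvM', torus_even hMo hE⟩
  · have h1 : Odd (Nat.card F ^ a) := h.pow
    have hMe : Even M := by
      rcases hM with hM | hM
      · rw [← hM] at h1
        by_contra hne
        exact Nat.not_even_iff_odd.2 h1 (Nat.not_even_iff_odd.1 hne).add_one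
      · rw [hM]; exact h1.add_one
    obtain ⟨l, hl⟩ := hMe
    by_cases hvM' : 2 * v = M
    · exact Or.inr (Or.inr ⟨h, hvM'⟩)
    · refine Or.inl ⟨M / 2, ?_, by omega, torus_odd ⟨l, hl⟩ hE⟩
      have h2 : M / 2 = l := by omega
      rw [h2]
      have h3 : v ∣ 2 * l := by rw [two_mul, ← hl]; exact hvM
      exact (Nat.Coprime.dvd_of_dvd_mul_left (Nat.coprime_two_right.2 hodd) h3)

/-- **The alternative.** -/
theorem elt2_or_big {m : ℕ} (hm : 4 ≤ m) {δ : ℤ} (hδ : δ = 1 ∨ δ = -1) (hex : ¬ (m = 4 ∧ δ = 1 ∧ Nat.card F = 2))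
    {v : ℕ} (hv : v.Prime)
    (hcase : v = 2 ∨ v ∣ Nat.card F ∨ eta (ee (Nat.card F) v) ≤ m - 1 ∨
      (eta (ee (Nat.card F) v) = m ∧ sg (ee (Nat.card F) v) = δ)) :
    (∃ N, v ∣ N ∧ N ≠ v ∧ Elt2 F m δ N) ∨
      (v ≠ 2 ∧ ¬ v ∣ Nat.card F ∧ ((¬ (m = 4 ∧ δ = 1) ∧ Big (Nat.card F) m v) ∨
        (m = 4 ∧ δ = 1 ∧ Nat.card F = 3 ∧ v = 13))) := by
  have hq : 1 < Nat.card F := Finite.one_lt_card
  by_cases hv2 : v = 2
  · subst hv2
    exact Or.inl (case_two hm hδ)
  by_cases hvq : v ∣ Nat.card F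
  · refine Or.inl (small_weight hm hδ hv hv2 ?_)
    rw [wO, if_pos (Or.inr hvq)]
    omega
  have hw : wO (Nat.card F) v = eta (ee (Nat.card F) v) := by
    rw [wO, if_neg (by rw [not_or]; exact ⟨hv2, hvq⟩)]
  have hk := ee_pos hv hvq
  rcases Nat.lt_or_ge (eta (ee (Nat.card F) v)) (m - 1) with h1 | h1
  · exact Or.inl (small_weight hm hδ hv hv2 (by rw [hw]; omega))
  have h3 : 3 ≤ eta (ee (Nat.card F) v) := by omega
  obtain ⟨hn1, hn2⟩ := not_dvd_small (q := Nat.card F) (v := v) hq.le h3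
  have hodd := hv.odd_of_ne_two hv2
  rcases Nat.lt_or_ge (eta (ee (Nat.card F) v)) m with h2 | h2
  · -- weight `m - 1`
    obtain ⟨a, ha⟩ : ∃ a, eta (ee (Nat.card F) v) = a := ⟨_, rfl⟩
    have ham : m = a + 1 := by omega
    have ha3 : 3 ≤ a := by omega
    subst ham
    rcases type_cases hq.le hv hvq with ⟨hs, hd, -⟩ | ⟨hs, hd, -⟩
    · rw [ha] at hd
      have hE : ∀ {N : ℕ}, N ∣ Nat.card F ^ a - 1 → Elt F a 1 N := fun h => elt_tor_plus (by omega) h
      rcases hδ with rfl | rfl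
      · -- torus of order `q ^ a - 1`
        have hpow : 1 < Nat.card F ^ a := Nat.one_lt_pow (by omega) hq
        rcases torus_case ha3 hv hv2 hd (hE dvd_rfl) (Or.inl (by omega)) with h | ⟨h, hv'⟩ | ⟨h, hv'⟩
        · rw [mul_one] at h
          exact Or.inl h
        · right
          refine ⟨hv2, hvq, ?_⟩
          by_cases ha4 : a = 3
          · exfalso
            subst ha4
            -- `q - 1 ∣ v`
            have h5 : Nat.card F - 1 ∣ v := by rw [hv']; exact Nat.sub_one_dvd_pow_sub_one _ _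
            rcases (Nat.dvd_prime hv).1 h5 with h6 | h6
            · exact hex ⟨rfl, rfl, by omega⟩
            · exact hn2 (by rw [h6])
          · left
            exact ⟨fun h => ha4 (by omega), big_of_even h (by omega) (by omega)⟩
        · right
          refine ⟨hv2, hvq, ?_⟩
          by_cases ha4 : a = 3
          · right
            subst ha4
            obtain ⟨l, hl⟩ := h
            have h5 : Nat.card F - 1 ∣ 2 * v := by rw [hv']; exact Nat.sub_one_dvd_pow_sub_one _ _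
            have h6 : 2 * l ∣ 2 * v := by
              have : Nat.card F - 1 = 2 * l := by omega
              rwa [this] at h5
            have h7 : l ∣ v := Nat.dvd_of_mul_dvd_mul_left (by norm_num) h6
            rcases (Nat.dvd_prime hv).1 h7 with h8 | h8
            · have h9 : Nat.card F = 3 := by omega
              rw [h9] at hv'
              exact ⟨rfl, rfl, h9, by omega⟩
            · exfalso
              exact hn2 ⟨2, by omega⟩
          · left
            exact ⟨fun h => ha4 (by omega), big_of_odd h (by omega) (by omega)⟩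
      · -- minus plane
        left
        have h := plane_trick (by omega) hv hv2 (hE hd) hn1
        rwa [one_mul] at h
    · rw [ha] at hd
      have hE : ∀ {N : ℕ}, N ∣ Nat.card F ^ a + 1 → Elt F a (-1) N := fun h => elt_tor_minus (by omega) h
      rcases hδ with rfl | rfl
      · left
        have h := plane_trick (by omega) hv hv2 (hE hd) hn1
        rwa [show (-1 : ℤ) * -1 = 1 by norm_num] at h
      · rcases torus_case ha3 hv hv2 hd (hE dvd_rfl) (Or.inr rfl) with h | ⟨h, hv'⟩ | ⟨h, hv'⟩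
        · rw [mul_one] at h
          exact Or.inl h
        · right
          refine ⟨hv2, hvq, Or.inl ⟨fun h => by norm_num at h, ?_⟩⟩
          by_cases ha4 : a = 3
          · exfalso
            subst ha4
            have h5 : Nat.card F + 1 ∣ v := by
              rw [hv']
              exact ⟨Nat.card F ^ 2 - Nat.card F + 1, by
                have h6 : Nat.card F ≤ Nat.card F ^ 2 := Nat.le_self_pow (by norm_num) _
                zify [h6]
                ring⟩
            rcases (Nat.dvd_prime hv).1 h5 with h6 | h6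
            · omega
            · exact hn1 (by rw [h6])
          · exact big_of_even h (by omega) (by omega)
        · right
          exact ⟨hv2, hvq, Or.inl ⟨fun h => by norm_num at h, big_of_odd h ha3 (by omega)⟩⟩
  · -- weight `m`
    have hcm : eta (ee (Nat.card F) v) = m ∧ sg (ee (Nat.card F) v) = δ := by
      rcases hcase with h | h | h | h
      · exact absurd h hv2
      · exact absurd h hvq
      · omega
      · exact h
    obtain ⟨hc1, hc2⟩ := hcm
    obtain ⟨a, ham⟩ : ∃ a, m = a + 1 := ⟨m - 1, by omega⟩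
    have hqm : Nat.card F ^ a ≤ Nat.card F ^ m := Nat.pow_le_pow_right (by omega) (by omega)
    have hqm2 : Nat.card F * Nat.card F ^ a = Nat.card F ^ m := by rw [ham, pow_succ']
    have hE : ∀ {N : ℕ}, N ∣ tn (Nat.card F) (ee (Nat.card F) v) → Elt F m δ N := by
      intro N hN
      have := elt_tn (F := F) hk hN
      rwa [hc1, hc2] at this
    have hvt := dvd_tn (q := Nat.card F) hq.le hv hvq
    have htn : tn (Nat.card F) (ee (Nat.card F) v) + 1 = Nat.card F ^ m ∧ δ = 1 ∧ Odd m ∨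
        tn (Nat.card F) (ee (Nat.card F) v) = Nat.card F ^ m + 1 ∧ δ = -1 := by
      rcases type_cases hq.le hv hvq with ⟨hs, hd, ho⟩ | ⟨hs, hd, he⟩
      · left
        rw [tn, if_neg ho]
        rw [eta, if_neg ho] at hc1
        rw [hc1] at ho ⊢
        have : 1 < Nat.card F ^ m := Nat.one_lt_pow (by omega) hq
        exact ⟨by omega, by rw [← hc2, hs], Nat.not_even_iff_odd.1 ho⟩
      · right
        rw [tn, if_pos he]
        rw [eta, if_pos he] at hc1
        rw [hc1]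
        exact ⟨rfl, by rw [← hc2, hs]⟩
    obtain ⟨t, ht⟩ : ∃ t, tn (Nat.card F) (ee (Nat.card F) v) = t := ⟨_, rfl⟩
    rw [ht] at hvt hE htn
    have hnot : ¬ (m = 4 ∧ δ = 1) := by
      rintro ⟨h4, h5⟩
      rcases htn with ⟨-, -, ho⟩ | ⟨-, h6⟩
      · rw [h4] at ho
        exact absurd ho (by decide)
      · rw [h5] at h6
        norm_num at h6
    rcases Nat.even_or_odd (Nat.card F) with h | h
    · -- `q` even
      have h4 : Even (Nat.card F ^ m) := h.pow_of_ne_zero (by omega)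
      have hto : Odd t := by
        rcases htn with ⟨h5, -, -⟩ | ⟨h5, -⟩
        · rw [← h5] at h4
          exact Nat.not_even_iff_odd.1 (Nat.even_add_one.1 h4)
        · rw [h5]; exact h4.add_one
      by_cases hvt' : v = t
      · right
        refine ⟨hv2, hvq, Or.inl ⟨hnot, ?_⟩⟩
        intro f hf hf2 _
        have h5 := bd_even (a := m) hf hf2 hm
        have h6 : f * (2 * m) ≤ 2 * (m + 1) * f := by linarith only []
        (clear * - htn hvt' h5 h6; omega)
      · exact Or.inl ⟨t, hvt, Ne.symm hvt', (hE dvd_rfl).two (by omega) hto⟩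
    · -- `q` odd
      have h3q : 3 ≤ Nat.card F := by
        rcases h with ⟨l, hl⟩
        omega
      rcases Nat.even_or_odd m with hme | hmo
      · -- `m` even: `t = q ^ m + 1`
        have h5 : t = Nat.card F ^ m + 1 := by
          rcases htn with ⟨-, -, ho⟩ | ⟨h5, -⟩
          · exact absurd hme (Nat.not_even_iff_odd.2 ho)
          · exact h5
        have h6 : Nat.card F ^ m % 4 = 1 := by
          obtain ⟨l, hl⟩ := hme
          rw [hl, ← two_mul, pow_mul, Nat.pow_mod]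
          have : Nat.card F ^ 2 % 4 = 1 := by
            rw [Nat.pow_mod]
            have : Nat.card F % 4 = 1 ∨ Nat.card F % 4 = 3 := by
              rcases h with ⟨l, hl⟩
              omega
            rcases this with h | h <;> rw [h]
          rw [this]
          norm_num
        have h7 : v ∣ t / 2 := by
          have h8 : v ∣ 2 * (t / 2) := by
            have : 2 * (t / 2) = t := by omega
            rwa [this]
          exact Nat.Coprime.dvd_of_dvd_mul_left (Nat.coprime_two_right.2 hodd) h8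
        by_cases hvt' : v = t / 2
        · right
          refine ⟨hv2, hvq, Or.inl ⟨hnot, ?_⟩⟩
          intro f hf _ hf3
          have h8 := bd_odd (a := m) hf (hf3 h) (by omega)
          have h9 : 2 * (f * (2 * m)) ≤ 4 * (m + 1) * f := by linarith only []
          (clear * - h5 hvt' h8 h9; omega)
        · exact Or.inl ⟨t / 2, h7, Ne.symm hvt', (hE ⟨2, by omega⟩).two (by omega) (by
            rw [Nat.odd_iff]; (clear * - h5 h6; omega))⟩
      · -- `m` odd: `S = t / (q ∓ 1)`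
        have hS : ∃ S c, t = c * S ∧ Odd S ∧ c ≤ Nat.card F + 1 ∧ ¬ v ∣ c ∧ 0 < c := by
          rcases htn with ⟨h5, -, -⟩ | ⟨h5, -⟩
          · refine ⟨∑ i ∈ Finset.range m, Nat.card F ^ i, Nat.card F - 1, ?_, ?_, by omega, hn2, by omega⟩
            · have h6 := Nat.geomSum_eq (m := Nat.card F) (by omega) m
              have h7 := Nat.div_mul_cancel (Nat.sub_one_dvd_pow_sub_one (Nat.card F) m)
              rw [h6, mul_comm, h7]
              omega
            · rw [Finset.odd_sum_iff_odd_card_odd]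
              have : (Finset.range m).filter (fun i => Odd (Nat.card F ^ i)) = Finset.range m :=
                Finset.filter_true_of_mem fun i _ => h.pow
              rw [this, Finset.card_range]
              exact hmo
          · obtain ⟨S, hS⟩ := hmo.nat_add_dvd_pow_add_pow (Nat.card F) 1
            rw [one_pow] at hS
            refine ⟨S, Nat.card F + 1, by rw [h5, hS], ?_, le_rfl, hn1, by omega⟩
            -- `S ≡ m` modulo `2`: `S` even implies `2 (q + 1) ∣ q ^ m + 1`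
            rw [← Nat.not_even_iff_odd]
            rintro ⟨l, hl⟩
            have h6 : Nat.card F ^ m + 1 = (Nat.card F + 1) * (2 * l) := by rw [hS, hl, two_mul]
            have h7 : ((Nat.card F : ℤ) + 1) * ((Finset.range m).sum fun i => (Nat.card F : ℤ) ^ i * (-1) ^ (m - 1 - i))
                = (Nat.card F : ℤ) ^ m + 1 := by
              have := Commute.geom_sum₂_mul (Commute.all (Nat.card F : ℤ) (-1)) m
              rw [hmo.neg_one_pow] at this
              rw [mul_comm]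
              linarith only [this]
            have h8 : ((Finset.range m).sum fun i => (Nat.card F : ℤ) ^ i * (-1) ^ (m - 1 - i)) = 2 * l := by
              have h9 : ((Nat.card F : ℤ) ^ m + 1) = ((Nat.card F : ℤ) + 1) * (2 * l) := by exact_mod_cast h6
              rw [h9] at h7
              exact mul_left_cancel₀ (by positivity) h7
            have h9 := congrArg (Int.cast : ℤ → ZMod 2) h8
            have h10 : ((Nat.card F : ℕ) : ZMod 2) = 1 := ZMod.natCast_eq_one_iff_odd.2 h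
            have h11 : (2 : ZMod 2) = 0 := by decide
            have h12 : (-1 : ZMod 2) = 1 := by decide
            push_cast at h9
            rw [h11, zero_mul, h10, h12] at h9
            simp only [one_pow, mul_one, Finset.sum_const, Finset.card_range, nsmul_eq_mul] at h9
            have h13 : ((m : ℕ) : ZMod 2) = 1 := ZMod.natCast_eq_one_iff_odd.2 hmo
            rw [h13] at h9
            exact one_ne_zero h9
        obtain ⟨S, c, hS1, hS2, hc3, hc4, hc5⟩ := hS
        have h7 : v ∣ S := by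
          rw [hS1] at hvt
          exact (hv.dvd_mul.1 hvt).resolve_left hc4
        by_cases hvt' : v = S
        · right
          refine ⟨hv2, hvq, Or.inl ⟨hnot, ?_⟩⟩
          intro f hf _ hf3
          have h8 := bd_odd (a := a) hf (hf3 h) (by omega)
          have h9 : 2 * (f * (2 * m)) = 4 * (a + 1) * f := by rw [ham]; ring
          -- `(q + 1) S ≥ q ^ m - 1`
          have h10 : Nat.card F ^ m ≤ (Nat.card F + 1) * v + 1 := by
            have h11 : t ≤ (Nat.card F + 1) * v := by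
              rw [hS1, hvt']
              exact Nat.mul_le_mul_right _ hc3
            rcases htn with ⟨h5, -, -⟩ | ⟨h5, -⟩ <;> omega
          rw [← hqm2] at h10
          -- `q (4 m f + 4) ≤ (q + 1) v + 1`
          have h12 : Nat.card F * (4 * (a + 1) * f + 4) ≤ (Nat.card F + 1) * v + 1 :=
            (Nat.mul_le_mul_left _ h8).trans h10
          by_contra hcon
          push Not at hcon
          have h13 : 2 * (v - 1) ≤ 4 * (a + 1) * f := by omega
          have h14 : 2 * v ≤ 4 * (a + 1) * f + 2 := by (clear * - h9 hcon; omega)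
          have h15 : 2 * ((Nat.card F + 1) * v) ≤ (Nat.card F + 1) * (4 * (a + 1) * f + 2) := by
            calc 2 * ((Nat.card F + 1) * v) = (Nat.card F + 1) * (2 * v) := by ring
              _ ≤ _ := Nat.mul_le_mul_left _ h14
          linarith only [hqm, hqm2, h3q, h8, h10, h12, h15]
        · exact Or.inl ⟨S, h7, Ne.symm hvt', (hE ⟨c, by rw [hS1, mul_comm]⟩).two (by omega) hS2⟩

end elts

end Cfsg.Agent.H964.Opm
end

-- part: H964/Opm/Nsc
section
/-!
# S3500-OPM: `NSC` for `PΩ^±_{2m}(q)` (helper964)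
-/

set_option autoImplicit false
set_option linter.unusedVariables false

namespace Cfsg.Agent.H964.Opm

open Cfsg Cfsg.Agent.H377 Cfsg.Agent.H72.AdjOrth Cfsg.Agent.H439.Der
open Cfsg.Agent.LieClassical.OrthCore Cfsg.Agent.LieClassical.OrthTrans Cfsg.Agent.LieClassical.OrthForms
  Cfsg.Agent.ClassicalGeometry.OrthAut1 Cfsg.Agent.ClassicalGeometry.OrthSemi
  Cfsg.Agent.ClassicalGeometry.OrthSemiForms
open Module

/-! ### the prime divisors of the order -/

theorem eta_le_of_dvd {k i : ℕ} (hi : 0 < i) (h : k ∣ 2 * i) : eta k ≤ i := by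
  rw [eta]
  split_ifs with he
  · have := Nat.le_of_dvd (by omega) h
    omega
  · have h1 : k ∣ i := (Nat.Coprime.dvd_of_dvd_mul_left (Nat.coprime_two_right.2 (Nat.not_even_iff_odd.1 he)) h)
    exact Nat.le_of_dvd hi h1

theorem case_prod {q m v : ℕ} (hq : 1 ≤ q) (hm : 4 ≤ m) (hv : v.Prime)
    (h : v ∣ ∏ i ∈ Finset.range (m - 1), (q ^ (2 * (i + 1)) - 1)) : eta (ee q v) ≤ m - 1 := by
  obtain ⟨i, hi, hd⟩ := (Prime.dvd_finsetProd_iff hv.prime _).1 h
  rw [Finset.mem_range] at hi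
  have := eta_le_of_dvd (i := i + 1) (by omega) (ee_dvd hq hd)
  omega

theorem case_plus {q m v : ℕ} (hq : 1 < q) (hm : 4 ≤ m) (hv : v.Prime)
    (h : v ∣ q ^ (m * (m - 1)) * (q ^ m - 1) * ∏ i ∈ Finset.range (m - 1), (q ^ (2 * (i + 1)) - 1)) :
    v = 2 ∨ v ∣ q ∨ eta (ee q v) ≤ m - 1 ∨ (eta (ee q v) = m ∧ sg (ee q v) = 1) := by
  rcases hv.dvd_mul.1 h with h | h
  · rcases hv.dvd_mul.1 h with h | h
    · exact Or.inr (Or.inl (hv.dvd_of_dvd_pow h))
    · right; right
      have h1 := ee_dvd hq.le h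
      by_cases he : Even (ee q v)
      · left
        rw [eta, if_pos he]
        have := Nat.le_of_dvd (by omega) h1
        omega
      · have h2 : eta (ee q v) = ee q v := by rw [eta, if_neg he]
        have h3 := Nat.le_of_dvd (by omega) h1
        rcases Nat.lt_or_ge (ee q v) m with h4 | h4
        · left; omega
        · right
          exact ⟨by omega, by rw [sg, if_neg he]⟩
  · exact Or.inr (Or.inr (Or.inl (case_prod hq.le hm hv h)))

theorem case_minus {q m v : ℕ} (hq : 1 < q) (hm : 4 ≤ m) (hv : v.Prime)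
    (h : v ∣ q ^ (m * (m - 1)) * (q ^ m + 1) * ∏ i ∈ Finset.range (m - 1), (q ^ (2 * (i + 1)) - 1)) :
    v = 2 ∨ v ∣ q ∨ eta (ee q v) ≤ m - 1 ∨ (eta (ee q v) = m ∧ sg (ee q v) = -1) := by
  rcases hv.dvd_mul.1 h with h | h
  · rcases hv.dvd_mul.1 h with h | h
    · exact Or.inr (Or.inl (hv.dvd_of_dvd_pow h))
    · have h0 : v ∣ q ^ (2 * m) - 1 := by
        have : q ^ (2 * m) - 1 = (q ^ m + 1) * (q ^ m - 1) := by
          rw [mul_comm 2 m, pow_mul]
          have := Nat.sq_sub_sq (q ^ m) 1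
          rw [one_pow] at this
          exact this
        rw [this]
        exact Dvd.dvd.mul_right h _
      have h1 := ee_dvd hq.le h0
      by_cases he : Even (ee q v)
      · right; right
        have h2 : eta (ee q v) = ee q v / 2 := by rw [eta, if_pos he]
        have h3 := Nat.le_of_dvd (by omega) h1
        obtain ⟨l, hl⟩ := he
        rcases Nat.lt_or_ge (eta (ee q v)) m with h4 | h4
        · left; omega
        · right
          exact ⟨by omega, by rw [sg, if_pos ⟨l, hl⟩]⟩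
      · left
        have h2 : ee q v ∣ m := Nat.Coprime.dvd_of_dvd_mul_left (Nat.coprime_two_right.2 (Nat.not_even_iff_odd.1 he)) h1
        have h3 : v ∣ q ^ m - 1 := by
          have h4 := dvd_pow_ee (r := v) hq.le
          exact h4.trans (Nat.pow_sub_one_dvd_pow_sub_one q h2)
        have h4 : 1 < q ^ m := Nat.one_lt_pow (by omega) hq
        have h5 : v ∣ (q ^ m + 1) - (q ^ m - 1) := Nat.dvd_sub h h3
        have h6 : (q ^ m + 1) - (q ^ m - 1) = 2 := by omega
        rw [h6] at h5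
        exact (Nat.prime_dvd_prime_iff_eq hv Nat.prime_two).1 h5
  · exact Or.inr (Or.inr (Or.inl (case_prod hq.le hm hv h)))

/-! ### the field -/

section field

variable {F : Type*} [Field F] [Fintype F]

theorem exists_pf (F : Type*) [Field F] [Fintype F] : ∃ p f : ℕ, p.Prime ∧ 1 ≤ f ∧ Fintype.card F = p ^ f ∧
    Nat.card (F ≃+* F) = f ∧ 2 ^ f ≤ Nat.card F ∧ (Odd (Nat.card F) → 3 ^ f ≤ Nat.card F) := by
  obtain ⟨p, hp⟩ := CharP.exists F
  obtain ⟨f, hpp, hf⟩ := FiniteField.card F p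
  have := Fact.mk hpp
  have hf1 : 1 ≤ (f : ℕ) := f.pos
  refine ⟨p, f, hpp, hf1, hf, Cfsg.Agent.Lib.FieldAutCard.card_ringAut hf1 hf, ?_, ?_⟩
  · rw [Nat.card_eq_fintype_card, hf]
    exact Nat.pow_le_pow_left hpp.two_le _
  · intro h
    rw [Nat.card_eq_fintype_card, hf] at h ⊢
    have h1 : p ≠ 2 := by
      rintro rfl
      exact Nat.not_odd_iff_even.2 ((even_two).pow_of_ne_zero (by omega)) h
    have := hpp.two_le
    exact Nat.pow_le_pow_left (by omega) _

theorem cast_ne_zero {v : ℕ} (hv : v.Prime) (h : ¬ v ∣ Nat.card F) : (v : F) ≠ 0 := by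
  intro h0
  apply h
  obtain ⟨p, hp⟩ := CharP.exists F
  obtain ⟨f, hpp, hf⟩ := FiniteField.card F p
  have h1 : p ∣ v := (CharP.cast_eq_zero_iff F p v).1 h0
  rw [(Nat.prime_dvd_prime_iff_eq hpp hv).1 h1] at hf
  rw [Nat.card_eq_fintype_card, hf]
  exact dvd_pow_self _ f.pos.ne'

end field

section rows

variable {F : Type} [Field F] [Fintype F] {m : ℕ}

theorem finite_POmega {ι : Type} [Fintype ι] [DecidableEq ι] (Q : (ι → F) → F) : Finite (Cfsg.POmega F Q) := by
  have : Finite (Matrix.GeneralLinearGroup ι F) := inferInstance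
  exact Quotient.finite _

/-- **`NSC` for the minus type** -/
theorem nsc_minus (hm : 4 ≤ m) {a b : F}
    (hab : ∀ z₁ z₂ : F, z₁ ^ 2 + a * z₁ * z₂ + b * z₂ ^ 2 = 0 → z₁ = 0 ∧ z₂ = 0) :
    NSC (Cfsg.POmega F (Cfsg.quadFormMinus (m - 1) F a b)) := by
  intro v hv hd
  have hfin := finite_POmega (F := F) (Cfsg.quadFormMinus (m - 1) F a b)
  have hq : 1 < Nat.card F := Finite.one_lt_card
  have h1 := Cfsg.Agent.S0294.result (F := F) (q := Nat.card F) Nat.card_eq_fintype_card.symm m hm a b hab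
  have h2 : v ∣ Nat.card F ^ (m * (m - 1)) * (Nat.card F ^ m + 1) *
      ∏ i ∈ Finset.range (m - 1), (Nat.card F ^ (2 * (i + 1)) - 1) := by
    rw [← h1]
    exact Dvd.dvd.mul_left hd _
  rcases elt2_or_big (F := F) hm (δ := -1) (Or.inr rfl) (fun h => by have := h.2.1; norm_num at this) hv
    (case_minus hq hm hv h2) with ⟨N, hN, hNv, hE⟩ | ⟨hv2, hvq, h3⟩
  · obtain ⟨g, hg⟩ := hE.minus hm hab
    exact not_SC_of_orderOf hv (y := g) (by rw [hg]; exact hN) (by rw [hg]; exact hNv)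
  · have hbig : Big (Nat.card F) m v := by
      rcases h3 with h3 | h3
      · exact h3.2
      · have := h3.2.1
        norm_num at this
    obtain ⟨p, f, hp, hf, hF, haut, h2f, h3f⟩ := exists_pf F
    have hG := good_minus (F := F) (m := m - 1) (by omega) a b hab
    rw [← coe_minusForm] at hd ⊢
    intro hsc
    refine not_SC_of_surj (Q := minusForm (m - 1) F a b) hG
      (Cfsg.Agent.AutOrth.Final.surjective_minus (by omega) hab) hv hv2 (cast_ne_zero hv hvq) ?_ ?_
      (hsc.congr (pomegaEquiv hG))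
    · rwa [← Nat.card_congr (pomegaEquiv hG).toEquiv]
    · rw [haut, Module.finrank_fintype_fun_eq_card, Fintype.card_sum, Fintype.card_sum, Fintype.card_fin,
        Fintype.card_fin]
      have h4 := hbig f hf h2f h3f
      have h5 : m - 1 + (m - 1) + 2 = 2 * m := by omega
      rw [h5]
      exact h4

/-- **`NSC` for the plus type** up to `PΩ8+(3)`, `v = 13` -/
theorem nsc_plus_aux (hm : 4 ≤ m) (hex : ¬ (m = 4 ∧ Fintype.card F = 2)) {v : ℕ} (hv : v.Prime)
    (hd : v ∣ Nat.card (Cfsg.POmega F (Cfsg.quadFormPlus m F))) (hex' : ¬ (m = 4 ∧ Fintype.card F = 3 ∧ v = 13)) :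
    ¬ SC (Cfsg.POmega F (Cfsg.quadFormPlus m F)) v := by
  have hfin := finite_POmega (F := F) (Cfsg.quadFormPlus m F)
  have hq : 1 < Nat.card F := Finite.one_lt_card
  have h1 := Cfsg.Agent.S0293.result (F := F) (q := Nat.card F) Nat.card_eq_fintype_card.symm m hm
  have h2 : v ∣ Nat.card F ^ (m * (m - 1)) * (Nat.card F ^ m - 1) *
      ∏ i ∈ Finset.range (m - 1), (Nat.card F ^ (2 * (i + 1)) - 1) := by
    rw [← h1]
    exact Dvd.dvd.mul_left hd _
  rcases elt2_or_big (F := F) hm (δ := 1) (Or.inl rfl) (fun h => hex ⟨h.1, by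
      rw [← Nat.card_eq_fintype_card]; exact h.2.2⟩) hv (case_plus hq hm hv h2) with ⟨N, hN, hNv, hE⟩ | ⟨hv2, hvq, h3⟩
  · obtain ⟨g, hg⟩ := hE.plus hm
    exact not_SC_of_orderOf hv (y := g) (by rw [hg]; exact hN) (by rw [hg]; exact hNv)
  · obtain ⟨hm4, hbig⟩ : ¬ (m = 4 ∧ (1 : ℤ) = 1) ∧ Big (Nat.card F) m v := by
      rcases h3 with h3 | h3
      · exact h3
      · exact absurd ⟨h3.1, by rw [← Nat.card_eq_fintype_card]; exact h3.2.2.1, h3.2.2.2⟩ hex'
    have hm5 : 5 ≤ m := by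
      rcases Nat.lt_or_ge m 5 with h | h
      · exact absurd ⟨by omega, rfl⟩ hm4
      · exact h
    obtain ⟨p, f, hp, hf, hF, haut, h2f, h3f⟩ := exists_pf F
    have hG := good_plus (F := F) (m := m) (by omega)
    rw [← coe_plusForm] at hd ⊢
    intro hsc
    refine not_SC_of_surj (Q := plusForm m F) hG
      (Cfsg.Agent.AutOrth.Final.surjective_plus hm5) hv hv2 (cast_ne_zero hv hvq) ?_ ?_
      (hsc.congr (pomegaEquiv hG))
    · rwa [← Nat.card_congr (pomegaEquiv hG).toEquiv]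
    · rw [haut, Module.finrank_fintype_fun_eq_card, Fintype.card_sum, Fintype.card_fin]
      have h4 := hbig f hf h2f h3f
      rw [← two_mul]
      exact h4

end rows

end Cfsg.Agent.H964.Opm
end

-- part: H964/Opm/O83
section
/-!
# S3500-OPM: `PΩ8+(3)` has two classes of elements of order 13 under its automorphism group (helper964)

The semisimilitudes induce a subgroup of index 3 (odd). If all elements of order 13 were conjugate, a 2-element of the
automorphism group, and then a semisimilitude, would act as `x ↦ x ^ 5` (up to inverses) on a subgroup of order 13, and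
all the 12 primitive roots of unity would be eigenvalues.
-/

set_option autoImplicit false
set_option linter.unusedVariables false

namespace Cfsg.Agent.H964.Opm

open Cfsg Cfsg.Agent.H439.Der
open Cfsg.Agent.LieClassical.OrthCore Cfsg.Agent.LieClassical.OrthTrans Cfsg.Agent.LieClassical.OrthForms
  Cfsg.Agent.ClassicalGeometry.OrthAut1 Cfsg.Agent.ClassicalGeometry.OrthSemi
  Cfsg.Agent.ClassicalGeometry.OrthSemiForms
open Module Polynomial

/-- a 2-element of a group fixes a coset of a subgroup of index 3 -/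
theorem exists_conj_mem {A : Type*} [Group A] [Finite A] (R : Subgroup A) (hR : R.index = 3) (ψ : A) {a : ℕ}
    (hψ : ψ ^ 2 ^ a = 1) : ∃ g : A, g⁻¹ * ψ * g ∈ R := by
  have h2 : Fact (Nat.Prime 2) := ⟨Nat.prime_two⟩
  have hP : IsPGroup 2 ↥(Subgroup.zpowers ψ) := by
    rintro ⟨y, k, rfl⟩
    refine ⟨a, Subtype.ext ?_⟩
    show (ψ ^ k) ^ 2 ^ a = 1
    rw [← zpow_natCast, ← zpow_mul, mul_comm, zpow_mul, zpow_natCast, hψ, one_zpow]
  have hfix := hP.nonempty_fixed_point_of_prime_not_dvd_card (A ⧸ R) (by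
    have : Nat.card (A ⧸ R) = 3 := hR
    rw [this]
    norm_num)
  obtain ⟨c, hc⟩ := hfix
  obtain ⟨g, rfl⟩ := QuotientGroup.mk_surjective c
  refine ⟨g, ?_⟩
  have h1 := hc ⟨ψ, Subgroup.mem_zpowers ψ⟩
  have h3 : (QuotientGroup.mk (ψ * g) : A ⧸ R) = QuotientGroup.mk g := h1
  rw [eq_comm, QuotientGroup.eq] at h3
  rwa [mul_assoc]

/-- the 2-part of an element -/
theorem exists_two_part {A : Type*} [Group A] [Finite A] (φ : A) : ∃ r a : ℕ, Odd r ∧ (φ ^ r) ^ 2 ^ a = 1 := by
  obtain ⟨a, r, hr, h⟩ := Nat.exists_eq_two_pow_mul_odd (n := orderOf φ) (orderOf_pos φ).ne'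
  exact ⟨r, a, hr, by rw [← pow_mul, mul_comm, ← h, pow_orderOf_eq_one]⟩

section roots

variable {F V : Type*} [Field F] [Fintype F] [AddCommGroup V] [Module F V] [FiniteDimensional F V]
  {Q : QuadraticForm F V}

theorem pow_mod_13 {r : ℕ} (hr : Odd r) : 5 ^ r % 13 = 5 ∨ 5 ^ r % 13 = 8 := by
  obtain ⟨k, rfl⟩ := hr
  rw [pow_succ, pow_mul]
  have h1 : (5 ^ 2) ^ k % 13 = 1 ∨ (5 ^ 2) ^ k % 13 = 12 := by
    induction k with
    | zero => left; norm_num
    | succ k ih =>
      rw [pow_succ, Nat.mul_mod]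
      rcases ih with h | h <;> rw [h] <;> norm_num
  rw [Nat.mul_mod]
  rcases h1 with h | h <;> rw [h] <;> norm_num

/-- no semisimilitude acts as `x ↦ x ^ 5` or `x ↦ x ^ 8` on an element of order 13 -/
theorem no_psi (hG : Good Q) (hF : Fintype.card F = 3) (hd : finrank F V < 12) {x : P Q} (hx : orderOf x = 13) {r : ℕ}
    (hr : Odd r) {M : Gam Q} (hM : Psi Q M x = x ^ (5 ^ r)) : False := by
  classical
  have h13 : Nat.Prime 13 := by norm_num
  have hodd : Odd 13 := by decide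
  obtain ⟨X, rfl, hX⟩ := exists_lift hG hodd (x := x) (by rw [← hx]; exact pow_orderOf_eq_one x)
  have hX1 : lin X ≠ 1 := by
    intro h
    have h1 : X = 1 := lin_injective h
    rw [h1, QuotientGroup.mk_one, orderOf_one] at hx
    norm_num at hx
  have : Fact (Nat.Prime 3) := ⟨Nat.prime_three⟩
  have hchar : CharP F 3 := by
    obtain ⟨q, hq⟩ := CharP.exists F
    obtain ⟨n, hqp, hn⟩ := FiniteField.card F q
    rw [hF] at hn
    have : q ∣ 3 := by rw [hn]; exact dvd_pow_self _ n.pos.ne'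
    rw [← (Nat.prime_dvd_prime_iff_eq hqp Nat.prime_three).1 this]
    exact hq
  have h13F : ((13 : ℕ) : F) ≠ 0 := by
    intro h
    have := (CharP.cast_eq_zero_iff F 3 13).1 h
    norm_num at this
  obtain ⟨ζ, hζ, hζv, hζ1⟩ := exists_root (by norm_num) (g := lin X) (by rw [← lin_pow, hX]; rfl) hX1 h13F
    (AlgebraicClosure F)
  have hord : orderOf ζ = 13 := by
    have : Fact (Nat.Prime 13) := ⟨h13⟩
    exact orderOf_eq_prime hζv hζ1
  obtain ⟨μ, hμ⟩ : ∃ μ, minpoly F (lin X) = μ := ⟨_, rfl⟩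
  rw [hμ] at hζ
  have hσ : ∀ σ : F ≃+* F, (σ : F →+* F) = RingHom.id F := by
    intro σ
    have hc : Nat.card (F ≃+* F) = 1 :=
      Cfsg.Agent.Lib.FieldAutCard.card_ringAut (p := 3) (f := 1) le_rfl (by rw [hF]; norm_num)
    have hs : Subsingleton (F ≃+* F) := (Nat.card_eq_one_iff_unique.1 hc).1
    rw [Subsingleton.elim σ (RingEquiv.refl F)]
    rfl
  obtain ⟨R, hR⟩ : ∃ R : ℕ → Prop, ∀ s, R s ↔ aeval (ζ ^ s) μ = 0 := ⟨_, fun _ => Iff.rfl⟩
  have hmod : ∀ s, R (s % 13) → R s := by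
    intro s h
    have : ζ ^ s = ζ ^ (s % 13) := by rw [← hord, pow_mod_orderOf]
    rw [hR] at h ⊢
    rw [this]; exact h
  have hmod' : ∀ s, R s → R (s % 13) := by
    intro s h
    have : ζ ^ s = ζ ^ (s % 13) := by rw [← hord, pow_mod_orderOf]
    rw [hR] at h ⊢
    rw [← this]; exact h
  have h1 : R 1 := by rw [hR, pow_one]; exact hζ
  have h3 : ∀ s, R s → R (3 * s % 13) := by
    intro s hs
    apply hmod'
    have h4 : aeval ((ζ ^ s) ^ 3) μ = 0 := by
      have : CharP (AlgebraicClosure F) 3 := charP_of_injective_algebraMap (algebraMap F _).injective 3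
      have h5 := congrArg (frobenius (AlgebraicClosure F) 3) ((hR s).1 hs)
      rw [map_zero] at h5
      rw [aeval_def, eval₂_eq_sum_range] at h5 ⊢
      rw [map_sum] at h5
      rw [← h5]
      refine Finset.sum_congr rfl fun i _ => ?_
      rw [map_mul, map_pow, frobenius_def, frobenius_def, ← map_pow, show μ.coeff i ^ 3 = μ.coeff i from by
        rw [← hF]; exact FiniteField.pow_card _]
    rw [← pow_mul, mul_comm] at h4
    exact (hR _).2 h4
  have hr' : ∀ s, R s → R (5 ^ r * s) := by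
    intro s hs
    obtain ⟨σ, c, hc⟩ := M.2
    have h4 := root_of_psi hG hodd hX hc hM (ζ := ζ ^ s) (by rw [hμ]; exact (hR s).1 hs)
    rw [hμ, hσ, Polynomial.map_id, ← pow_mul, mul_comm] at h4
    exact (hR _).2 h4
  have h5 : ∀ s, R s → R (5 * s % 13) := by
    intro s hs
    rcases pow_mod_13 hr with h | h
    · have h7 := hmod' _ (hr' s hs)
      have e : 5 ^ r * s % 13 = 5 * s % 13 := Nat.ModEq.mul_right s (show 5 ^ r ≡ 5 [MOD 13] from h)
      rwa [e] at h7
    · have h7 := hmod' _ (hr' _ (hr' _ (hr' s hs)))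
      have e : 5 ^ r * (5 ^ r * (5 ^ r * s)) % 13 = 5 * s % 13 := by
        have e1 : 5 ^ r * (5 ^ r * (5 ^ r * s)) = (5 ^ r * 5 ^ r * 5 ^ r) * s := by ring
        have e2 : 5 ^ r ≡ 8 [MOD 13] := h
        rw [e1]
        exact Nat.ModEq.mul_right s (((e2.mul e2).mul e2).trans (show 8 * 8 * 8 ≡ 5 [MOD 13] by decide))
      rwa [e] at h7
  have h3' := h3 1 h1
  have h9 := h3 _ h3'
  have g5 := h5 1 h1
  have g2 := h3 _ g5
  have g6 := h3 _ g2
  have g12 := h5 _ g5
  have g10 := h3 _ g12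
  have g4 := h3 _ g10
  have g8 := h5 _ g12
  have g11 := h3 _ g8
  have g7 := h3 _ g11
  norm_num at h3' h9 g5 g2 g6 g12 g10 g4 g8 g11 g7
  have hall : ∀ s ∈ Finset.Icc 1 12, R s := by
    intro s hs
    rw [Finset.mem_Icc] at hs
    obtain ⟨hs1, hs2⟩ := hs
    interval_cases s <;> assumption
  have hμ0 : μ ≠ 0 := by rw [← hμ]; exact minpoly.ne_zero (Algebra.IsIntegral.isIntegral _)
  have hcard : (Finset.Icc 1 12).card ≤ (μ.aroots (AlgebraicClosure F)).toFinset.card := by
    refine Finset.card_le_card_of_injOn (fun j => ζ ^ j) ?_ ?_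
    · intro j hj
      rw [Finset.mem_coe, Multiset.mem_toFinset, Polynomial.mem_aroots]
      exact ⟨hμ0, (hR j).1 (hall j hj)⟩
    · intro i hi j hj hij
      rw [Finset.mem_coe, Finset.mem_Icc] at hi hj
      exact pow_injOn_Iio_orderOf (by rw [Set.mem_Iio, hord]; omega) (by rw [Set.mem_Iio, hord]; omega) hij
  have hle : (μ.aroots (AlgebraicClosure F)).toFinset.card ≤ finrank F V := by
    refine (Multiset.toFinset_card_le _).trans ((Polynomial.card_roots' _).trans (Polynomial.natDegree_map_le.trans ?_))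
    have h1 := LinearMap.minpoly_dvd_charpoly (lin X)
    have h2 := Polynomial.natDegree_le_of_dvd h1 (LinearMap.charpoly_monic (lin X)).ne_zero
    rwa [LinearMap.charpoly_natDegree, hμ] at h2
  rw [Nat.card_Icc] at hcard
  omega

end roots

variable {F : Type} [Field F] [Fintype F] {m : ℕ}

theorem not_SC_13 (hF : Fintype.card F = 3) (hd : 13 ∣ Nat.card (Cfsg.POmega F (Cfsg.quadFormPlus 4 F))) :
    ¬ SC (Cfsg.POmega F (Cfsg.quadFormPlus 4 F)) 13 := by
  have hG := good_plus (F := F) (m := 4) (by norm_num)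
  rw [← coe_plusForm] at hd ⊢
  intro hsc
  have h := hsc.congr (pomegaEquiv hG)
  have h13 : Fact (Nat.Prime 13) := ⟨by norm_num⟩
  have hfin0 : Finite (Cfsg.POmega F ⇑(plusForm 4 F)) := finite_POmega _
  have hfin : Finite (P (plusForm 4 F)) := Finite.of_equiv _ (pomegaEquiv hG).toEquiv
  have hfA : Finite (MulAut (P (plusForm 4 F))) :=
    Finite.of_injective (fun f : MulAut (P (plusForm 4 F)) => (f : _ → _)) DFunLike.coe_injective
  rw [Nat.card_congr (pomegaEquiv hG).toEquiv] at hd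
  obtain ⟨x, hx⟩ := exists_prime_orderOf_dvd_card' 13 hd
  have hx5 : orderOf (x ^ 5) = 13 := by
    rw [orderOf_pow' _ (by norm_num), hx]
    norm_num
  obtain ⟨φ, hφ⟩ := h x (x ^ 5) (by rw [hx]) (by rw [hx5])
  obtain ⟨r, a, hr, ha⟩ := exists_two_part (φ : MulAut (P (plusForm 4 F)))
  obtain ⟨g, hg⟩ := exists_conj_mem (Psi (plusForm 4 F)).range Cfsg.Agent.AutOrth.Final.index_plus_four _ ha
  obtain ⟨M, hM⟩ := hg
  have hpow : ∀ n : ℕ, ((φ : MulAut (P (plusForm 4 F))) ^ n) x = x ^ (5 ^ n) := by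
    intro n
    induction n with
    | zero => simp only [_root_.pow_zero, _root_.MulAut.one_apply, _root_.pow_one]
    | succ n ih =>
      rw [pow_succ', MulAut.mul_apply, ih]
      have : (φ : MulAut (P (plusForm 4 F))) (x ^ 5 ^ n) = (φ x) ^ 5 ^ n := map_pow φ _ _
      rw [this, hφ, ← pow_mul, ← pow_succ']
  refine no_psi hG hF (by
    rw [Module.finrank_fintype_fun_eq_card, Fintype.card_sum, Fintype.card_fin]; norm_num)
    (x := g⁻¹ x) ?_ hr (M := M) ?_
  · rw [← hx]
    exact orderOf_injective (g⁻¹ : MulAut (P (plusForm 4 F))).toMonoidHom (g⁻¹).injective x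
  · rw [hM, MulAut.mul_apply, MulAut.mul_apply]
    have e1 : g (g⁻¹ x) = x := by rw [← MulAut.mul_apply, mul_inv_cancel]; rfl
    rw [e1, hpow, map_pow]

/-- **`NSC` for the plus type** -/
theorem nsc_plus (hm : 4 ≤ m) (hex : ¬ (m = 4 ∧ Fintype.card F = 2)) :
    NSC (Cfsg.POmega F (Cfsg.quadFormPlus m F)) := by
  intro v hv hd
  by_cases h : m = 4 ∧ Fintype.card F = 3 ∧ v = 13
  · obtain ⟨rfl, hF, rfl⟩ := h
    exact not_SC_13 hF hd
  · exact nsc_plus_aux hm hex hv hd h

end Cfsg.Agent.H964.Opm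
end
end
end
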